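import Groth.Agent.H18.TwistTensor2
import Groth.Agent.H18.STL.StalkGG
import Groth.Agent.H71.IdealInvertible
import Groth.Agent.H18.STL.Inverse
import Groth.Agent.H18.STL.GenAt
import Groth.Agent.H18.STL.GlobGen

/-!
# Multiplication `J ⊗ M ⟶ M` for `J ⟶ O_X`, and sections of `I ⊗ M` (helper18)

* `tensorModComm_hom_tmul`, `mulHom`, `mulHom_app_tmul`
* `exists_mem_basicOpen_of_isGenAt`, `surjective_stalk_mulHom`
* `span_germ_eq_top_of_jointly_epi`, `exists_mem_genLocus_comp`
* for an ideal sheaf `I`: `notMem_support_of_isGenAt`, `genLocus_comp_mulHom_disjoint`,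
  `surjective_stalk_mulHom_ideal`
-/

set_option autoImplicit false
universe u
open CategoryTheory CategoryTheory.Limits AlgebraicGeometry TopologicalSpace Opposite TensorProduct MonoidalCategory

namespace Groth.Agent.H18.IdealTw

open Groth.Agent.H18 Groth.Agent.H18.STL

variable {X : Scheme.{u}}

/-- section formula for the symmetry of `tensorMod` -/
theorem tensorModComm_hom_tmul (M N : X.Modules) (U : X.Opens) (m : Γ(M, U)) (n : Γ(N, U)) :
    (tensorModComm M N).hom.app U (SecTwist.tmul M N U m n) = SecTwist.tmul N M U n m := by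
  let adj := PresheafOfModules.sheafificationAdjunction.{u, u, u, u}
    (J := Opens.grothendieckTopology X) (𝟙 X.ringCatSheaf.obj)
  let φ : (CohB1.tensorPre M N : X.PresheafOfModules) ⟶ (CohB1.tensorPre N M : X.PresheafOfModules) :=
    (β_ (CohB1.toPMod M) (CohB1.toPMod N)).hom
  let x : ↥((CohB1.tensorPre M N).obj (op U)) := m ⊗ₜ n
  have natU : ((adj.unit.app (CohB1.tensorPre N M : X.PresheafOfModules)).app (op U)).hom
      ((φ.app (op U)).hom x) =
      ((((CohB1.sheafifyMod X).map φ).val.app (op U)).hom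
        (((adj.unit.app (CohB1.tensorPre M N : X.PresheafOfModules)).app (op U)).hom x)) :=
    congrArg (fun ψ => (PresheafOfModules.Hom.app ψ (op U)).hom x) (adj.unit.naturality φ)
  have hx : (φ.app (op U)).hom x =
      ((n ⊗ₜ m : ↥((CohB1.tensorPre N M).obj (op U)))) := by
    rfl
  rw [hx] at natU
  exact natU.symm


/-- multiplication `J ⊗ M ⟶ M` for a morphism `i : J ⟶ O_X` -/
noncomputable def mulHom {J : X.Modules} (i : J ⟶ Coh.structureModule X) (M : X.Modules) :
    CohB1.tensorMod J M ⟶ M :=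
  KoszTw.tensorMap i (𝟙 M) ≫ (tensorModComm (Coh.structureModule X) M).hom ≫
    (SecTwist.unitorR M).hom

theorem mulHom_app_tmul {J : X.Modules} (i : J ⟶ Coh.structureModule X) (M : X.Modules)
    (U : X.Opens) (a : Γ(J, U)) (m : Γ(M, U)) :
    (mulHom i M).app U (SecTwist.tmul J M U a m) =
      (OmegaSh.fnSect X U (i.app U a)) • m := by
  unfold mulHom
  rw [Scheme.Modules.Hom.comp_app, Scheme.Modules.Hom.comp_app]
  change ((SecTwist.unitorR M).hom.app U) (((tensorModComm (Coh.structureModule X) M).hom.app U)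
    ((KoszTw.tensorMap i (𝟙 M)).app U (SecTwist.tmul J M U a m))) = _
  rw [KoszTw.tensorMap_tmul, tensorModComm_hom_tmul]
  exact SecTwist.unitorR_tmul M U m (i.app U a)


open Groth.Agent.H18.PUP

theorem fnSect_app_smul {J : X.Modules} (i : J ⟶ Coh.structureModule X) (W : X.Opens)
    (r : Γ(X, W)) (a : Γ(J, W)) :
    OmegaSh.fnSect X W (i.app W (r • a)) = r * OmegaSh.fnSect X W (i.app W a) := by
  rw [Scheme.Modules.Hom.app_smul]
  rfl

theorem fnSect_app_add {J : X.Modules} (i : J ⟶ Coh.structureModule X) (W : X.Opens)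
    (a b : Γ(J, W)) :
    OmegaSh.fnSect X W (i.app W (a + b)) =
      OmegaSh.fnSect X W (i.app W a) + OmegaSh.fnSect X W (i.app W b) := by
  rw [map_add, map_add]

/-- on an open where `M` has a basis `e`, the image of `J ⊗ M ⟶ M` consists of the multiples of
`e` by functions in the image of `i : J ⟶ O_X` -/
theorem exists_mulHom_tmulLin_eq {J : X.Modules} (i : J ⟶ Coh.structureModule X) {M : X.Modules}
    {W : X.Opens} {e : Γ(M, W)} (he : IsBasisOn M W e)
    (z : Γ(J, W) ⊗[Γ(X, W)] Γ(M, W)) :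
    ∃ a : Γ(J, W), (mulHom i M).app W (tmulLin J M W z) =
      OmegaSh.fnSect X W (i.app W a) • e := by
  induction z using TensorProduct.induction_on with
  | zero =>
    refine ⟨0, ?_⟩
    rw [map_zero, map_zero, map_zero, map_zero, zero_smul]
  | tmul a m =>
    obtain ⟨r, hr⟩ := (he W le_rfl).2 m
    have hr' : r • e = m := by
      have := hr
      simp only [mres_self] at this
      exact this
    refine ⟨r • a, ?_⟩
    rw [← tmul_eq, mulHom_app_tmul, fnSect_app_smul, ← hr', smul_smul, mul_comm]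
  | add z₁ z₂ h₁ h₂ =>
    obtain ⟨a₁, ha₁⟩ := h₁
    obtain ⟨a₂, ha₂⟩ := h₂
    refine ⟨a₁ + a₂, ?_⟩
    rw [map_add, map_add, ha₁, ha₂, fnSect_app_add, add_smul]

/-- **Sections of `J ⊗ M` only generate `M` where `J ⟶ O_X` is surjective.** -/
theorem exists_mem_basicOpen_of_isGenAt {J : X.Modules} (i : J ⟶ Coh.structureModule X)
    {M : X.Modules} (hM : PicF.IsInvertible M) {U' : X.Opens}
    (t : Γ(CohB1.tensorMod J M, U')) {y : X} (hy : y ∈ U')
    (hgen : IsGenAt M ((mulHom i M).app U' t) y) :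
    ∃ (W : X.Opens) (a : Γ(J, W)), y ∈ X.basicOpen (OmegaSh.fnSect X W (i.app W a)) := by
  obtain ⟨V, e, hyV, he⟩ := exists_basis_of_isInvertible hM y
  obtain ⟨W₁, hW₁, hyW₁, x, hx⟩ := tmulLin_locally_surjective J M U' t y hy
  have hWV : W₁ ⊓ V ≤ V := inf_le_right
  have hWW : W₁ ⊓ V ≤ W₁ := inf_le_left
  have he' : IsBasisOn M (W₁ ⊓ V) (mres M hWV e) := he.mono hWV
  obtain ⟨a, ha⟩ := exists_mulHom_tmulLin_eq i he' (tres J M hWW x)
  refine ⟨W₁ ⊓ V, a, ?_⟩
  rw [tmulLin_tres, hx, mres_mres, ← hom_app_mres] at ha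
  have h1 : IsGenAt M (mres M (hWW.trans hW₁) ((mulHom i M).app U' t)) y :=
    (isGenAt_mres_iff (hWW.trans hW₁) _ ⟨hyW₁, hyV⟩).2 hgen
  rw [ha] at h1
  exact (isGenAt_smul_basis_iff he' _ ⟨hyW₁, hyV⟩).1 h1


open Groth.Agent.H5.Stalk

/-- the germs at `x` of a jointly epimorphic family of sections span the stalk -/
theorem span_germ_eq_top_of_jointly_epi {G : X.Modules} {ι : Type*}
    (τ : ι → (Coh.structureModule X ⟶ G))
    (hτ : ∀ {Q : X.Modules} (g : G ⟶ Q), (∀ i, τ i ≫ g = 0) → g = 0) (x : X) :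
    Submodule.span (X.presheaf.stalk x) (Set.range fun i : ι =>
      (G.presheaf.germ ⊤ x trivial (Groth.Agent.H54.PB.evOne G (τ i)) :
        (stalkFunctor x).obj G)) = ⊤ := by
  set N := Submodule.span (X.presheaf.stalk x) (Set.range fun i : ι =>
      (G.presheaf.germ ⊤ x trivial (Groth.Agent.H54.PB.evOne G (τ i)) :
        (stalkFunctor x).obj G)) with hN
  have h1 : toSky x (ModuleCat.ofHom N.mkQ) = 0 := by
    refine hτ _ (fun i => ?_)
    refine comp_toSky_eq_zero (τ i) x _ ?_
    exact (Submodule.Quotient.mk_eq_zero N).2 (Submodule.subset_span ⟨i, rfl⟩)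
  have h2 : ModuleCat.ofHom N.mkQ = 0 := toSky_injective x (h1.trans (toSky_zero x).symm)
  rw [eq_top_iff]
  intro m _
  have h3 : N.mkQ m = 0 := congrArg (fun φ => φ.hom m) h2
  exact (Submodule.Quotient.mk_eq_zero N).1 h3

/-- if a jointly epimorphic family of sections of `G` is pushed along a morphism `μ : G ⟶ L` to an
invertible module which is surjective on the stalk at `x`, one of the sections generates `L` at
`x` -/
theorem exists_mem_genLocus_comp {G L : X.Modules} (hL : PicF.IsInvertible L) {ι : Type*}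
    (τ : ι → (Coh.structureModule X ⟶ G))
    (hτ : ∀ {Q : X.Modules} (g : G ⟶ Q), (∀ i, τ i ≫ g = 0) → g = 0) (μ : G ⟶ L) (x : X)
    (hμ : Function.Surjective ((stalkFunctor x).map μ).hom) :
    ∃ i, x ∈ CohB1.genLocus L (τ i ≫ μ) := by
  have h0 := span_germ_eq_top_of_jointly_epi τ hτ x
  have hspan : Submodule.span (X.presheaf.stalk x) (Set.range fun i : ι =>
      (L.presheaf.germ ⊤ x trivial (Groth.Agent.H54.PB.evOne L (τ i ≫ μ)) :
        (stalkFunctor x).obj L)) = ⊤ := by
    have key : Submodule.span (X.presheaf.stalk x) (Set.range fun i : ι =>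
        (G.presheaf.germ ⊤ x trivial (Groth.Agent.H54.PB.evOne G (τ i)) :
          (stalkFunctor x).obj G)) ≤ Submodule.comap ((stalkFunctor x).map μ).hom
        (Submodule.span (X.presheaf.stalk x) (Set.range fun i : ι =>
          (L.presheaf.germ ⊤ x trivial (Groth.Agent.H54.PB.evOne L (τ i ≫ μ)) :
            (stalkFunctor x).obj L))) := by
      refine Submodule.span_le.2 ?_
      rintro _ ⟨i, rfl⟩
      refine Submodule.subset_span ⟨i, ?_⟩
      exact (Groth.Agent.H5.Stalk.Tensor.stalkFunctor_map_gm x μ ⊤ trivial _).symm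
    refine eq_top_iff.2 ?_
    intro m _
    obtain ⟨m', rfl⟩ := hμ m
    refine key ?_
    rw [h0]
    exact Submodule.mem_top
  obtain ⟨i, hi⟩ := exists_isGenAt_of_span_eq_top hL x (fun _ : ι => (⊤ : X.Opens))
    (fun _ => trivial) (fun i => Groth.Agent.H54.PB.evOne L (τ i ≫ μ)) hspan
  exact ⟨i, (mem_genLocus_iff_isGenAt _ (W := ⊤) trivial).2 hi⟩


theorem fnSect_app_mres {J : X.Modules} (i : J ⟶ Coh.structureModule X) {W W' : X.Opens}
    (h : W' ≤ W) (a : Γ(J, W)) :
    OmegaSh.fnSect X W' (i.app W' (mres J h a)) = rres X h (OmegaSh.fnSect X W (i.app W a)) := by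
  rw [← hom_app_mres]
  rfl

/-- `J ⊗ M ⟶ M` is surjective on the stalks at the points where `J ⟶ O_X` is surjective -/
theorem surjective_stalk_mulHom {J : X.Modules} (i : J ⟶ Coh.structureModule X) (M : X.Modules)
    {W : X.Opens} (a : Γ(J, W)) {x : X}
    (hx : x ∈ X.basicOpen (OmegaSh.fnSect X W (i.app W a))) :
    Function.Surjective ((stalkFunctor x).map (mulHom i M)).hom := by
  intro mx
  obtain ⟨U, hxU, m, rfl⟩ := Groth.Agent.H5.Stalk.Tensor.exists_gm_eq x M mx
  set f := OmegaSh.fnSect X W (i.app W a) with hf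
  have hle : X.basicOpen f ⊓ U ≤ W := inf_le_left.trans (X.basicOpen_le f)
  have hle' : X.basicOpen f ⊓ U ≤ X.basicOpen f := inf_le_left
  have hU' : X.basicOpen f ⊓ U ≤ U := inf_le_right
  have hunit : IsUnit (rres X hle f) := by
    have h1 := RingedSpace.isUnit_res_basicOpen X.toRingedSpace f
    have h2 : rres X hle f = rres X hle' (rres X (X.basicOpen_le f) f) := (rres_rres _ _ f).symm
    rw [h2]
    exact h1.map _
  obtain ⟨g, hg⟩ := hunit.exists_left_inv
  have hxW' : x ∈ X.basicOpen f ⊓ U := ⟨hx, hxU⟩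
  refine ⟨Groth.Agent.H5.Stalk.Tensor.gm x _ (X.basicOpen f ⊓ U) hxW'
    (SecTwist.tmul J M _ (g • mres J hle a) (mres M hU' m)), ?_⟩
  have e1 : (mulHom i M).app (X.basicOpen f ⊓ U)
      (SecTwist.tmul J M _ (g • mres J hle a) (mres M hU' m)) = mres M hU' m := by
    refine (mulHom_app_tmul i M _ _ _).trans ?_
    rw [fnSect_app_smul, fnSect_app_mres, hg, one_smul]
  refine (Groth.Agent.H5.Stalk.Tensor.stalkFunctor_map_gm x (mulHom i M) _ hxW' _).trans ?_
  refine (congrArg (Groth.Agent.H5.Stalk.Tensor.gm x M (X.basicOpen f ⊓ U) hxW') e1).trans ?_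
  exact Groth.Agent.H5.Stalk.Tensor.gm_res x M (homOfLE hU') hxW' m


section Ideal

variable (I : X.IdealSheafData)

/-- sections of the ideal module do not generate at points of the support -/
theorem notMem_basicOpen_idealSect {y : X} (hy : y ∈ I.support) {W : X.Opens}
    (a : Γ(ClSub.idealMod I, W)) :
    y ∉ X.basicOpen (OmegaSh.fnSect X W ((ClSub.idealModι I).app W a)) := by
  intro hmem
  have hyW : y ∈ W := X.basicOpen_le _ hmem
  obtain ⟨W', hW'aff, hyW', hW'W⟩ := Opens.isBasis_iff_nbhd.1 X.isBasis_affineOpens hyW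
  have h1 : OmegaSh.idealSect I W' (mres (ClSub.idealMod I) hW'W a) ∈ I.ideal ⟨W', hW'aff⟩ :=
    Groth.Agent.H71.IdealInv.idealSect_mem I hW'aff _
  have h2 : y ∈ X.zeroLocus (U := W') (I.ideal ⟨W', hW'aff⟩) :=
    (Scheme.IdealSheafData.mem_support_iff_of_mem (U := ⟨W', hW'aff⟩) hyW').1 hy
  have h3 := (X.mem_zeroLocus_iff _ y).1 h2 _ h1
  apply h3
  rw [OmegaSh.idealSect_apply, fnSect_app_mres]
  have h4 := X.basicOpen_res (OmegaSh.fnSect X W ((ClSub.idealModι I).app W a))
    (homOfLE hW'W).op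
  rw [h4]
  exact ⟨hyW', hmem⟩

/-- an ideal sheaf is the unit ideal on an affine open missing its support -/
theorem ideal_eq_top_of_disjoint (W : X.affineOpens)
    (h : Disjoint (I.support : Set X) (W.1 : Set X)) : I.ideal W = ⊤ := by
  by_contra hne
  obtain ⟨m, hm, hle⟩ := Ideal.exists_le_maximal _ hne
  let p : PrimeSpectrum Γ(X, W.1) := ⟨m, hm.isPrime⟩
  have hp0 : p ∈ PrimeSpectrum.zeroLocus (I.ideal W : Set Γ(X, W.1)) := hle
  have hp : W.2.fromSpec p ∈ X.zeroLocus (U := W.1) (I.ideal W : Set Γ(X, W.1)) :=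
    (Set.ext_iff.mp (W.2.fromSpec_preimage_zeroLocus (I.ideal W : Set Γ(X, W.1))) p).mpr hp0
  have hpW : W.2.fromSpec p ∈ W.1 := by
    have : W.2.fromSpec p ∈ Set.range W.2.fromSpec := ⟨p, rfl⟩
    rwa [W.2.range_fromSpec] at this
  have h1 : W.2.fromSpec p ∈ (I.support : Set X) ∩ W.1 := by
    rw [Scheme.IdealSheafData.coe_support_inter]
    exact ⟨hp, hpW⟩
  exact Set.disjoint_left.mp h h1.1 h1.2

/-- away from the support the ideal module has a section mapping to `1` -/
theorem exists_idealSect_eq_one {x : X} (hx : x ∉ I.support) :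
    ∃ (W : X.Opens) (a : Γ(ClSub.idealMod I, W)), x ∈ W ∧
      OmegaSh.fnSect X W ((ClSub.idealModι I).app W a) = 1 := by
  let V : X.Opens := ⟨(I.support : Set X)ᶜ, I.support.isClosed.isOpen_compl⟩
  have hxV : x ∈ V := hx
  obtain ⟨W, hWaff, hxW, hWV⟩ := Opens.isBasis_iff_nbhd.1 X.isBasis_affineOpens hxV
  have hdisj : Disjoint (I.support : Set X) (W : Set X) := by
    rw [Set.disjoint_left]
    intro z hz hzW
    exact hWV hzW hz
  have htop := ideal_eq_top_of_disjoint I ⟨W, hWaff⟩ hdisj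
  obtain ⟨σ, hσ⟩ := Groth.Agent.H71.IdealInv.exists_idealSect_eq I hWaff (1 : Γ(X, W))
    (htop ▸ Submodule.mem_top)
  exact ⟨W, σ, hxW, hσ⟩


/-- a section of `M` coming from a section of `I ⊗ M` does not generate `M` at the points of the
support of `I` -/
theorem notMem_support_of_isGenAt {M : X.Modules} (hM : PicF.IsInvertible M) {U' : X.Opens}
    (t : Γ(CohB1.tensorMod (ClSub.idealMod I) M, U')) {y : X} (hy : y ∈ U')
    (hgen : IsGenAt M ((mulHom (ClSub.idealModι I) M).app U' t) y) : y ∉ I.support := by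
  intro hys
  obtain ⟨W, a, ha⟩ := exists_mem_basicOpen_of_isGenAt (ClSub.idealModι I) hM t hy hgen
  exact notMem_basicOpen_idealSect I hys a ha

/-- the locus where a global section of `M` coming from `I ⊗ M` generates misses the support of
`I` -/
theorem genLocus_comp_mulHom_disjoint {M : X.Modules} (hM : PicF.IsInvertible M)
    (t : Coh.structureModule X ⟶ CohB1.tensorMod (ClSub.idealMod I) M) {y : X}
    (hy : y ∈ CohB1.genLocus M (t ≫ mulHom (ClSub.idealModι I) M)) : y ∉ I.support := by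
  have h1 := (mem_genLocus_iff_isGenAt (t ≫ mulHom (ClSub.idealModι I) M) (W := ⊤)
    (x := y) trivial).1 hy
  exact notMem_support_of_isGenAt I hM (SecTwist.val t ⊤) trivial h1

/-- `I ⊗ M ⟶ M` is surjective on stalks away from the support of `I` -/
theorem surjective_stalk_mulHom_ideal (M : X.Modules) {x : X} (hx : x ∉ I.support) :
    Function.Surjective ((stalkFunctor x).map (mulHom (ClSub.idealModι I) M)).hom := by
  obtain ⟨W, a, hxW, ha⟩ := exists_idealSect_eq_one I hx
  refine surjective_stalk_mulHom (ClSub.idealModι I) M a ?_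
  rw [ha]
  have : X.basicOpen (1 : Γ(X, W)) = W := X.basicOpen_of_isUnit isUnit_one
  rw [this]
  exact hxW

end Ideal

end Groth.Agent.H18.IdealTw
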